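import Mathlib.Topology.NoetherianSpace
import Mathlib.Topology.Sober
import Mathlib.Topology.Connected.LocallyConnected
import Mathlib.AlgebraicGeometry.Noetherian
import Mathlib.AlgebraicGeometry.Properties
import Mathlib.AlgebraicGeometry.Stalk

/-!
# Irreducible components of locally noetherian spaces and local rings of schemes
-/

set_option autoImplicit false
set_option backward.isDefEq.respectTransparency.types false

universe u

open Topology TopologicalSpace Set AlgebraicGeometry

namespace Groth.Agent.IrredComp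

section Top

variable {X : Type u} [TopologicalSpace X]

/-- The irreducible components meeting a noetherian open subset are finitely many. -/
lemma finite_components_meeting {U : Set X} (hU : IsOpen U) [NoetherianSpace U] :
    {Z ∈ irreducibleComponents X | (Z ∩ U).Nonempty}.Finite := by
  refine Set.Finite.of_finite_image (f := fun Z ↦ ((↑) : U → X) ⁻¹' Z)
    ((NoetherianSpace.finite_irreducibleComponents (α := U)).subset ?_) ?_
  · rintro _ ⟨Z, ⟨hZ, hne⟩, rfl⟩
    exact preimage_mem_irreducibleComponents hZ hU.isOpenEmbedding_subtypeVal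
      (by rwa [Subtype.range_coe])
  · rintro Z ⟨hZ, hne⟩ Z' ⟨hZ', hne'⟩ heq
    have key : ∀ {A : Set X}, A ∈ irreducibleComponents X → (A ∩ U).Nonempty →
        closure (((↑) : U → X) '' (((↑) : U → X) ⁻¹' A)) = A := fun {A} hA hne ↦
      closure_image_preimage_of_isPreirreducible _ hU.isOpenEmbedding_subtypeVal.isOpenMap A
        (by obtain ⟨a, ha, haU⟩ := hne; exact ⟨⟨a, haU⟩, ha⟩) hA.1.2
        (isClosed_of_mem_irreducibleComponents _ hA)
    rw [← key hZ hne, ← key hZ' hne']
    simp only at heq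
    rw [heq]

variable (hX : ∀ x : X, ∃ U ∈ nhds x, NoetherianSpace U)
include hX

lemma exists_open_noetherian (x : X) : ∃ U : Set X, IsOpen U ∧ x ∈ U ∧ NoetherianSpace U := by
  obtain ⟨N, hN, hNn⟩ := hX x
  exact ⟨interior N, isOpen_interior, mem_interior_iff_mem_nhds.mpr hN,
    (Topology.IsEmbedding.inclusion interior_subset).isInducing.noetherianSpace⟩

/-- In a locally noetherian space every union of irreducible components is closed. -/
lemma isClosed_sUnion {S : Set (Set X)} (hS : S ⊆ irreducibleComponents X) : IsClosed (⋃₀ S) := by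
  rw [← isOpen_compl_iff, isOpen_iff_forall_mem_open]
  intro x hx
  obtain ⟨U, hUo, hxU, _⟩ := exists_open_noetherian hX x
  refine ⟨U ∩ (⋃ Z ∈ {Z ∈ S | (Z ∩ U).Nonempty}, Z)ᶜ, ?_, ?_, hxU, ?_⟩
  · rintro y ⟨hyU, hy⟩ ⟨Z, hZ, hyZ⟩
    exact hy (mem_biUnion (x := Z) ⟨hZ, y, hyZ, hyU⟩ hyZ)
  · refine hUo.inter (IsClosed.isOpen_compl (self := ?_))
    exact ((finite_components_meeting hUo).subset fun Z hZ ↦ ⟨hS hZ.1, hZ.2⟩).isClosed_biUnion
      fun Z hZ ↦ isClosed_of_mem_irreducibleComponents _ (hS hZ.1)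
  · intro h
    obtain ⟨Z, hZ, hxZ⟩ := mem_iUnion₂.mp h
    exact hx ⟨Z, hZ.1, hxZ⟩

/-- The complement of the union of the components not passing through `x`. -/
lemma isOpen_compl_sUnion_not_mem (x : X) :
    IsOpen (⋃₀ {Z ∈ irreducibleComponents X | x ∉ Z})ᶜ :=
  (isClosed_sUnion hX fun _ h ↦ h.1).isOpen_compl

/-- If a point lies on a unique component, it has an irreducible open neighbourhood. -/
lemma exists_isIrreducible_nhd (x : X)
    (huniq : ∀ Z ∈ irreducibleComponents X, ∀ Z' ∈ irreducibleComponents X, x ∈ Z → x ∈ Z' → Z = Z') :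
    ∃ W : Set X, IsOpen W ∧ x ∈ W ∧ IsIrreducible W ∧ W ⊆ irreducibleComponent x := by
  refine ⟨(⋃₀ {Z ∈ irreducibleComponents X | x ∉ Z})ᶜ, isOpen_compl_sUnion_not_mem hX x,
    fun ⟨Z, hZ, hxZ⟩ ↦ hZ.2 hxZ, ?_, ?_⟩
  rotate_left
  · intro y hy
    by_cases hxy : x ∈ irreducibleComponent y
    · rw [huniq _ (irreducibleComponent_mem_irreducibleComponents x) _
        (irreducibleComponent_mem_irreducibleComponents y) mem_irreducibleComponent hxy]
      exact mem_irreducibleComponent
    · exact absurd ⟨_, ⟨irreducibleComponent_mem_irreducibleComponents y, hxy⟩,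
        mem_irreducibleComponent⟩ hy
  · refine ⟨⟨x, fun ⟨Z, hZ, hxZ⟩ ↦ hZ.2 hxZ⟩, ?_⟩
    refine (isIrreducible_irreducibleComponent (x := x)).2.open_subset
      (isOpen_compl_sUnion_not_mem hX x) ?_
    intro y hy
    by_cases hxy : x ∈ irreducibleComponent y
    · rw [huniq _ (irreducibleComponent_mem_irreducibleComponents x) _
        (irreducibleComponent_mem_irreducibleComponents y) mem_irreducibleComponent hxy]
      exact mem_irreducibleComponent
    · exact absurd ⟨_, ⟨irreducibleComponent_mem_irreducibleComponents y, hxy⟩,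
        mem_irreducibleComponent⟩ hy

lemma isOpen_of_pairwiseDisjoint (h : (irreducibleComponents X).PairwiseDisjoint id)
    {Z : Set X} (hZ : Z ∈ irreducibleComponents X) : IsOpen Z := by
  have : Z = (⋃₀ (irreducibleComponents X \ {Z}))ᶜ := by
    ext x
    constructor
    · rintro hx ⟨Z', ⟨hZ', hne⟩, hx'⟩
      exact (h hZ' hZ hne).le_bot ⟨hx', hx⟩
    · intro hx
      by_contra hxZ
      exact hx ⟨_, ⟨irreducibleComponent_mem_irreducibleComponents x,
        fun he ↦ hxZ (he ▸ mem_irreducibleComponent)⟩, mem_irreducibleComponent⟩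
  rw [this]
  exact (isClosed_sUnion hX sdiff_subset).isOpen_compl

lemma isOpen_connectedComponent (x : X) : IsOpen (connectedComponent x) := by
  rw [isOpen_iff_forall_mem_open]
  intro y hy
  refine ⟨(⋃₀ {Z ∈ irreducibleComponents X | y ∉ Z})ᶜ, ?_, isOpen_compl_sUnion_not_mem hX y,
    fun ⟨Z, hZ, hyZ⟩ ↦ hZ.2 hyZ⟩
  intro z hz
  rw [connectedComponent_eq hy]
  by_cases hyz : y ∈ irreducibleComponent z
  · exact isIrreducible_irreducibleComponent.isConnected.subset_connectedComponent hyz
      mem_irreducibleComponent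
  · exact absurd ⟨_, ⟨irreducibleComponent_mem_irreducibleComponents z, hyz⟩,
      mem_irreducibleComponent⟩ hz

lemma locallyNoetherian_subtype {F : Set X} (x : F) :
    ∃ U ∈ nhds x, NoetherianSpace U := by
  obtain ⟨U, hUo, hxU, _⟩ := exists_open_noetherian hX (x : X)
  refine ⟨((↑) : F → X) ⁻¹' U, (hUo.preimage continuous_subtype_val).mem_nhds hxU, ?_⟩
  have hind : IsInducing (fun y : ((↑) : F → X) ⁻¹' U ↦ (⟨((y : F) : X), y.2⟩ : U)) :=
    (IsInducing.subtypeVal.comp IsInducing.subtypeVal).codRestrict (s := U) (fun y ↦ y.2)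
  exact hind.noetherianSpace

theorem locallyConnectedSpace : LocallyConnectedSpace X := by
  rw [locallyConnectedSpace_iff_connectedComponentIn_open]
  intro F hF x hx
  rw [connectedComponentIn_eq_image hx]
  exact hF.isOpenEmbedding_subtypeVal.isOpenMap _
    (isOpen_connectedComponent (fun y ↦ locallyNoetherian_subtype hX y) _)

theorem tfae :
    List.TFAE [∀ Z ∈ irreducibleComponents X, IsOpen Z,
      irreducibleComponents X = Set.range (connectedComponent : X → Set X),
      ∀ x : X, IsIrreducible (connectedComponent x),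
      (irreducibleComponents X).PairwiseDisjoint id] := by
  tfae_have 1 → 2 := by
    intro h
    have hcc : ∀ Z ∈ irreducibleComponents X, ∀ x ∈ Z, connectedComponent x = Z := fun Z hZ x hx ↦
      subset_antisymm
        (IsClopen.connectedComponent_subset ⟨isClosed_of_mem_irreducibleComponents _ hZ, h Z hZ⟩ hx)
        (hZ.1.isConnected.subset_connectedComponent hx)
    ext Z
    constructor
    · intro hZ
      obtain ⟨x, hx⟩ := hZ.1.1
      exact ⟨x, hcc Z hZ x hx⟩
    · rintro ⟨x, rfl⟩
      rw [hcc _ (irreducibleComponent_mem_irreducibleComponents x) x mem_irreducibleComponent]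
      exact irreducibleComponent_mem_irreducibleComponents x
  tfae_have 2 → 3 := fun h x ↦ by
    have : connectedComponent x ∈ irreducibleComponents X := h ▸ ⟨x, rfl⟩
    exact this.1
  tfae_have 3 → 4 := by
    intro h Z hZ Z' hZ' hne
    rw [Function.onFun, id, id, Set.disjoint_left]
    intro x hx hx'
    have e : ∀ A ∈ irreducibleComponents X, x ∈ A → A = connectedComponent x := fun A hA hxA ↦
      subset_antisymm (hA.1.isConnected.subset_connectedComponent hxA)
        (hA.2 (h x) (hA.1.isConnected.subset_connectedComponent hxA))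
    exact hne ((e Z hZ hx).trans (e Z' hZ' hx').symm)
  tfae_have 4 → 1 := fun h Z hZ ↦ isOpen_of_pairwiseDisjoint hX h hZ
  tfae_finish

end Top

section Scheme

/-- Local ring has prime nilradical iff the point lies on a unique irreducible component. -/
theorem isPrime_nilradical_stalk_iff {X : Scheme.{u}} (x : X) :
    (nilradical (X.presheaf.stalk x)).IsPrime ↔
      ∀ Z ∈ irreducibleComponents (X : Type u), ∀ Z' ∈ irreducibleComponents (X : Type u),
        x ∈ Z → x ∈ Z' → Z = Z' := by
  have hgen : ∀ Z ∈ irreducibleComponents (X : Type u), ∃ ζ, closure {ζ} = Z := fun Z hZ ↦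
    ⟨hZ.1.genericPoint, by
      rw [hZ.1.closure_genericPoint (isClosed_of_mem_irreducibleComponents _ hZ)]⟩
  have hrange : ∀ z, z ∈ Set.range (X.fromSpecStalk x) ↔ z ⤳ x := fun z ↦ by
    rw [Scheme.range_fromSpecStalk]; rfl
  constructor
  · intro h Z hZ Z' hZ' hxZ hxZ'
    let q : Spec (X.presheaf.stalk x) := ⟨nilradical _, h⟩
    have hη : ∀ z, z ⤳ x → X.fromSpecStalk x q ⤳ z := by
      intro z hz
      obtain ⟨p, rfl⟩ := (hrange z).mpr hz
      refine Specializes.map ?_ (X.fromSpecStalk x).continuous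
      exact (PrimeSpectrum.le_iff_specializes q p).mp (nilradical_le_prime p.asIdeal)
    have key : ∀ A ∈ irreducibleComponents (X : Type u), x ∈ A →
        A = closure {X.fromSpecStalk x q} := by
      intro A hA hxA
      obtain ⟨ζ, hζ⟩ := hgen A hA
      have h1 : ζ ⤳ x := specializes_iff_mem_closure.mpr (hζ ▸ hxA)
      have h2 : A ⊆ closure {X.fromSpecStalk x q} := by
        rw [← hζ]
        exact (specializes_iff_closure_subset.mp (hη ζ h1))
      exact subset_antisymm h2 (hA.2 isIrreducible_singleton.closure h2)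
    exact (key Z hZ hxZ).trans (key Z' hZ' hxZ').symm
  · intro h
    obtain ⟨ζ, hζ⟩ := hgen _ (irreducibleComponent_mem_irreducibleComponents x)
    have hζx : ζ ⤳ x := specializes_iff_mem_closure.mpr (hζ ▸ mem_irreducibleComponent)
    obtain ⟨q, hq⟩ := (hrange ζ).mpr hζx
    have hle : ∀ p : Spec (X.presheaf.stalk x), q.asIdeal ≤ p.asIdeal := by
      intro p
      have hp : X.fromSpecStalk x p ⤳ x := (hrange _).mp ⟨p, rfl⟩
      have hcomp := h _ (irreducibleComponent_mem_irreducibleComponents x) _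
        (irreducibleComponent_mem_irreducibleComponents (X.fromSpecStalk x p))
        mem_irreducibleComponent
        (hp.mem_closed isClosed_irreducibleComponent mem_irreducibleComponent)
      have : X.fromSpecStalk x q ⤳ X.fromSpecStalk x p := by
        rw [hq, specializes_iff_mem_closure, hζ, hcomp]
        exact mem_irreducibleComponent
      rw [(X.fromSpecStalk x).isEmbedding.isInducing.specializes_iff] at this
      exact (PrimeSpectrum.le_iff_specializes q p).mpr this
    have : nilradical (X.presheaf.stalk x) = q.asIdeal := by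
      refine le_antisymm (nilradical_le_prime _) ?_
      rw [nilradical_eq_sInf]
      exact le_sInf fun J hJ ↦ hle ⟨J, hJ⟩
    rw [this]
    exact q.2

theorem pairwiseDisjoint_iff (X : Scheme.{u}) :
    (irreducibleComponents (X : Type u)).PairwiseDisjoint id ↔
      ∀ x : X, (nilradical (X.presheaf.stalk x)).IsPrime := by
  simp only [isPrime_nilradical_stalk_iff]
  constructor
  · intro h x Z hZ Z' hZ' hx hx'
    by_contra hne
    exact (h hZ hZ' hne).le_bot ⟨hx, hx'⟩
  · intro h Z hZ Z' hZ' hne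
    rw [Function.onFun, id, id, Set.disjoint_left]
    exact fun x hx hx' ↦ hne (h x Z hZ Z' hZ' hx hx')

lemma exists_noetherian_nhd (X : Scheme.{u}) [IsLocallyNoetherian X] (x : X) :
    ∃ U ∈ nhds x, NoetherianSpace U := by
  obtain ⟨_, ⟨U, hU, rfl⟩, hxU, -⟩ :=
    X.isBasis_affineOpens.exists_subset_of_mem_open (Set.mem_univ x) isOpen_univ
  refine ⟨U, U.2.mem_nhds hxU, ?_⟩
  have : IsNoetherianRing Γ(X, U) := IsLocallyNoetherian.component_noetherian ⟨U, hU⟩
  exact noetherianSpace_of_isAffineOpen U hU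

/-- A point of a locally noetherian scheme with reduced local ring has a reduced neighbourhood. -/
theorem exists_reduced_nhd (X : Scheme.{u}) [IsLocallyNoetherian X] (x : X)
    [_root_.IsReduced (X.presheaf.stalk x)] :
    ∃ U : X.Opens, x ∈ U ∧ AlgebraicGeometry.IsReduced (U : Scheme.{u}) := by
  obtain ⟨_, ⟨U, hU, rfl⟩, hxU, -⟩ :=
    X.isBasis_affineOpens.exists_subset_of_mem_open (Set.mem_univ x) isOpen_univ
  have : IsNoetherianRing Γ(X, U) := IsLocallyNoetherian.component_noetherian ⟨U, hU⟩
  let := X.presheaf.algebra_section_stalk (⟨x, hxU⟩ : U)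
  have := hU.isLocalization_stalk ⟨x, hxU⟩
  obtain ⟨s, hs⟩ := IsNoetherian.noetherian (nilradical Γ(X, U))
  have hzero : ∀ a ∈ nilradical Γ(X, U), ∃ t ∉ (hU.primeIdealOf ⟨x, hxU⟩).asIdeal, t * a = 0 := by
    intro a ha
    have h1 := ((mem_nilradical.mp ha).map (algebraMap Γ(X, U) (X.presheaf.stalk x))).eq_zero
    obtain ⟨⟨t, ht⟩, h⟩ :=
      (IsLocalization.map_eq_zero_iff (hU.primeIdealOf ⟨x, hxU⟩).asIdeal.primeCompl _ _).mp h1
    exact ⟨t, ht, h⟩
  choose! t ht ht0 using hzero
  let g := ∏ a ∈ s, t a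
  have hmem : ∀ a ∈ s, a ∈ nilradical Γ(X, U) := fun a ha ↦ hs ▸ Submodule.subset_span ha
  have hg : g ∉ (hU.primeIdealOf ⟨x, hxU⟩).asIdeal := by
    intro hmem'
    obtain ⟨a, ha, hat⟩ := Ideal.IsPrime.prod_mem_iff.mp hmem'
    exact ht a (hmem a ha) hat
  have hxg : x ∈ X.basicOpen g := by
    rw [Scheme.mem_basicOpen _ g x hxU]
    exact IsLocalization.map_units (X.presheaf.stalk x)
      (⟨g, hg⟩ : (hU.primeIdealOf ⟨x, hxU⟩).asIdeal.primeCompl)
  refine ⟨X.basicOpen g, hxg, ?_⟩
  have := hU.isLocalization_basicOpen g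
  have hle : nilradical Γ(X, U) ≤ LinearMap.ker (LinearMap.mulLeft Γ(X, U) g) := by
    rw [← hs, Submodule.span_le]
    intro a ha
    show g * a = 0
    obtain ⟨c, hc⟩ : t a ∣ g := Finset.dvd_prod_of_mem t ha
    rw [hc, mul_right_comm, ht0 a (hmem a ha), zero_mul]
  have hred : _root_.IsReduced Γ(X, X.basicOpen g) := by
    refine ⟨fun y ⟨k, hk⟩ ↦ ?_⟩
    obtain ⟨a, ⟨_, n, rfl⟩, rfl⟩ := IsLocalization.exists_mk'_eq (Submonoid.powers g) y
    rw [← IsLocalization.mk'_pow, IsLocalization.mk'_eq_zero_iff] at hk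
    obtain ⟨⟨_, m, rfl⟩, hm⟩ := hk
    change g ^ m * a ^ k = 0 at hm
    rw [IsLocalization.mk'_eq_zero_iff]
    have hnil : g * a ∈ nilradical Γ(X, U) := by
      refine mem_nilradical.mpr ⟨m + k, ?_⟩
      calc (g * a) ^ (m + k) = g ^ m * a ^ k * (g ^ k * a ^ m) := by ring
        _ = 0 := by rw [hm, zero_mul]
    refine ⟨⟨_, 2, rfl⟩, ?_⟩
    have := hle hnil
    change g * (g * a) = 0 at this
    change g ^ 2 * a = 0
    rwa [pow_two, mul_assoc]
  have hiso := (hU.basicOpen g).isoSpec
  have : AlgebraicGeometry.IsReduced (Spec Γ(X, X.basicOpen g)) := inferInstance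
  exact isReduced_of_isOpenImmersion hiso.hom

theorem exists_irreducible_nhd (X : Scheme.{u}) [IsLocallyNoetherian X] (x : X)
    (hx : (nilradical (X.presheaf.stalk x)).IsPrime) :
    ∃ U : X.Opens, x ∈ U ∧ IsIrreducible (U : Set X) := by
  obtain ⟨W, hWo, hxW, hW, -⟩ := exists_isIrreducible_nhd (exists_noetherian_nhd X) x
    ((isPrime_nilradical_stalk_iff x).mp hx)
  exact ⟨⟨W, hWo⟩, hxW, hW⟩

lemma isPrime_nilradical_of_isDomain (R : Type u) [CommRing R] [IsDomain R] :
    (nilradical R).IsPrime := by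
  rw [nilradical_eq_zero]
  exact Ideal.isPrime_bot

end Scheme

end Groth.Agent.IrredComp
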